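import Groth.Prelude.Def_CohB1
import Groth.Agent.Lib.ProjSpace.Chart
import Groth.Agent.Lib.ProjSpace.Basic
import Groth.Agent.Lib.Twist.QCoh
import Mathlib.AlgebraicGeometry.FunctionField
import Mathlib.AlgebraicGeometry.Morphisms.ClosedImmersion
import Mathlib.AlgebraicGeometry.Morphisms.Flat

/-!
# Standard charts of a closed subscheme of a relative projective space
-/

set_option autoImplicit false
set_option backward.isDefEq.respectTransparency.types false
universe u

open CategoryTheory CategoryTheory.Limits AlgebraicGeometry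

namespace Groth.Agent.BlowUp3

variable {X' X : Scheme.{u}}

theorem subring_eq_top_of_isPushout {A B C D : CommRingCat.{u}} {a : A ⟶ B} {c : A ⟶ C} {p : B ⟶ D} {q : C ⟶ D}
    (h : IsPushout a c p q) (P : Subring D) (hp : ∀ x, p x ∈ P) (hq : ∀ x, q x ∈ P) : P = ⊤ := by
  refine eq_top_iff.2 fun t _ => ?_
  let p' : B ⟶ CommRingCat.of P := CommRingCat.ofHom (p.hom.codRestrict P hp)
  let q' : C ⟶ CommRingCat.of P := CommRingCat.ofHom (q.hom.codRestrict P hq)
  have hw : a ≫ p' = c ≫ q' := CommRingCat.hom_ext (RingHom.ext fun x =>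
    Subtype.ext (congrArg (fun φ : A ⟶ D => φ x) h.w))
  have he : h.desc p' q' hw ≫ CommRingCat.ofHom P.subtype = 𝟙 D := by
    apply h.hom_ext
    · rw [← Category.assoc, h.inl_desc, Category.comp_id]; rfl
    · rw [← Category.assoc, h.inr_desc, Category.comp_id]; rfl
  have h1 : ((h.desc p' q' hw t : CommRingCat.of P) : D) = t := congrArg (fun φ : D ⟶ D => φ t) he
  exact h1 ▸ (h.desc p' q' hw t).2

theorem genericPoint_mem [IsIntegral X] {U : X.Opens} (h : (U : Set X).Nonempty) : genericPoint X ∈ U :=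
  ((genericPoint_spec X).mem_open_set_iff U.isOpen).mpr (by simpa using h)

/-- Homogeneous coordinates for a morphism: standard opens, ratios and their properties. -/
structure ProjData [IsIntegral X'] (f : X' ⟶ X) where
  J : Type
  fintypeJ : Fintype J
  W : J → X'.Opens
  cover : ∀ x : X', ∃ j, x ∈ W j
  mem : ∀ j, genericPoint X' ∈ W j
  a : ∀ m, J → Γ(X', W m)
  basicOpen : ∀ m j, X'.basicOpen (a m j) = W m ⊓ W j
  cocycle : ∀ l m j, X'.presheaf.germ (W m) _ (mem m) (a m j) * X'.presheaf.germ (W l) _ (mem l) (a l m) =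
    X'.presheaf.germ (W l) _ (mem l) (a l j)
  affine : ∀ (j : J) (U : X.affineOpens), IsAffineOpen (W j ⊓ f ⁻¹ᵁ U.1)
  gen : ∀ (j : J) (U : X.affineOpens), Subring.closure
    (Set.range (f.appLE U.1 (W j ⊓ f ⁻¹ᵁ U.1) inf_le_right).hom ∪
      Set.range fun m => X'.presheaf.map (homOfLE (inf_le_left : W j ⊓ f ⁻¹ᵁ U.1 ≤ W j)).op (a j m)) = ⊤

section Space

variable (N : ℕ) (R : Type u) [CommRing R]

/-- The standard open of projective space. -/
noncomputable abbrev Dp (j : Fin (N + 1)) : (CohB1.ProjSpace N R).Opens :=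
  Proj.basicOpen (CohB1.polyGrading N R) (MvPolynomial.X j)

theorem isAffineOpen_Dp (j : Fin (N + 1)) : IsAffineOpen (Dp N R j) :=
  Proj.isAffineOpen_basicOpen _ _ (MvPolynomial.isHomogeneous_X R j) Nat.one_pos

/-- The ratio of two coordinates. -/
noncomputable def ratio (m j : Fin (N + 1)) : Γ(CohB1.ProjSpace N R, Dp N R m) :=
  Proj.awayToSection (CohB1.polyGrading N R) (MvPolynomial.X m) (Groth.Agent.ProjSpace.coord R m j)

theorem basicOpen_ratio (m j : Fin (N + 1)) :
    (CohB1.ProjSpace N R).basicOpen (ratio N R m j) = Dp N R m ⊓ Dp N R j := by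
  rw [ratio, Groth.Agent.ProjSpace.coord_eq_mk]
  refine (Twist.basicOpen_awayToSection (CohB1.polyGrading N R) Nat.one_pos _ _).trans ?_
  exact Proj.basicOpen_mul _ _ _

theorem ratio_mul (l m j : Fin (N + 1)) {V : (Proj (CohB1.polyGrading N R)).Opens} (hm : V ≤ Dp N R m) (hl : V ≤ Dp N R l) :
    (Proj (CohB1.polyGrading N R)).presheaf.map (homOfLE hm).op (ratio N R m j) *
      (Proj (CohB1.polyGrading N R)).presheaf.map (homOfLE hl).op (ratio N R l m) =
      (Proj (CohB1.polyGrading N R)).presheaf.map (homOfLE hl).op (ratio N R l j) := by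
  simp only [ratio, Groth.Agent.ProjSpace.coord_eq_mk]
  refine Twist.sectionO_ext fun x hx => ?_
  erw [Twist.valO_mul, Twist.valO_map, Twist.valO_map, Twist.valO_map]
  erw [Twist.valO_awayToSection (CohB1.polyGrading N R) _ _ x (hm hx) (Twist.pow_notMem _ (hm hx) 1),
    Twist.valO_awayToSection (CohB1.polyGrading N R) _ _ x (hl hx) (Twist.pow_notMem _ (hl hx) 1),
    Twist.valO_awayToSection (CohB1.polyGrading N R) _ _ x (hl hx) (Twist.pow_notMem _ (hl hx) 1)]
  rw [Localization.mk_mul, Localization.mk_eq_mk_iff, Localization.r_iff_exists]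
  refine ⟨1, ?_⟩
  simp only [Submonoid.coe_mul, OneMemClass.coe_one]
  ring

theorem sections_Dp_le (j : Fin (N + 1)) (S : Subring Γ(CohB1.ProjSpace N R, Dp N R j))
    (hc : ∀ r, Proj.awayToSection (CohB1.polyGrading N R) (MvPolynomial.X j) (Groth.Agent.ProjSpace.const R j r) ∈ S)
    (hr : ∀ m, ratio N R j m ∈ S) : S = ⊤ := by
  refine eq_top_iff.2 fun t ht => ?_
  clear ht
  obtain ⟨z, rfl⟩ := (ConcreteCategory.bijective_of_isIso
    (Proj.basicOpenIsoAway (CohB1.polyGrading N R) (MvPolynomial.X j) (MvPolynomial.isHomogeneous_X R j)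
      Nat.one_pos).hom).2 t
  obtain ⟨p, rfl⟩ := (Groth.Agent.ProjSpace.toAway_bijective R j).2 z
  change Proj.awayToSection (CohB1.polyGrading N R) (MvPolynomial.X j) (Groth.Agent.ProjSpace.toAway R j p) ∈ S
  induction p using MvPolynomial.induction_on with
  | C r => rw [Groth.Agent.ProjSpace.toAway_C]; exact hc r
  | add p q hp hq => rw [map_add, map_add]; exact add_mem hp hq
  | mul_X p m hp => rw [map_mul, map_mul, Groth.Agent.ProjSpace.toAway_X]; exact mul_mem hp (hr m.1)

theorem iSup_Dp : ⨆ j, Dp N R j = ⊤ := Groth.Agent.ProjSpace.iSup_basicOpen N R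

end Space

section Over

variable {N : ℕ}

theorem affine_gen_over (j : Fin (N + 1)) (U : X.affineOpens) (V : (CohB1.ProjSpaceOver N X).Opens)
    (hV : V = pullback.fst (CohB1.ProjSpace.toSpec N (ULift.{u} ℤ)) (specULiftZIsTerminal.from X) ⁻¹ᵁ
      Dp N (ULift.{u} ℤ) j ⊓ CohB1.ProjSpaceOver.toBase N X ⁻¹ᵁ U.1) :
    IsAffineOpen V ∧ Subring.closure
      (Set.range ((CohB1.ProjSpaceOver.toBase N X).appLE U.1 V (hV.le.trans inf_le_right)).hom ∪
        Set.range fun m => (pullback.fst (CohB1.ProjSpace.toSpec N (ULift.{u} ℤ))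
          (specULiftZIsTerminal.from X)).appLE (Dp N (ULift.{u} ℤ) j) V (hV.le.trans inf_le_left)
          (ratio N (ULift.{u} ℤ) j m)) = ⊤ := by
  let fst := pullback.fst (CohB1.ProjSpace.toSpec N (ULift.{u} ℤ)) (specULiftZIsTerminal.from X)
  let snd := pullback.snd (CohB1.ProjSpace.toSpec N (ULift.{u} ℤ)) (specULiftZIsTerminal.from X)
  have H : IsPullback fst snd (CohB1.ProjSpace.toSpec N (ULift.{u} ℤ)) (specULiftZIsTerminal.from X) :=
    IsPullback.of_hasPullback _ _
  have hUST : U.1 ≤ specULiftZIsTerminal.from X ⁻¹ᵁ ⊤ := le_top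
  have hUSX : Dp N (ULift.{u} ℤ) j ≤ CohB1.ProjSpace.toSpec N (ULift.{u} ℤ) ⁻¹ᵁ ⊤ := le_top
  have haff : IsAffineOpen V := by
    have : IsAffine (⊤ : (Spec (CommRingCat.of (ULift.{u} ℤ))).Opens).toScheme := isAffineOpen_top _
    have : IsAffine U.1.toScheme := U.2
    have : IsAffine (Dp N (ULift.{u} ℤ) j).toScheme := isAffineOpen_Dp N _ j
    exact .of_isIso (Scheme.Hom.isPullback_resLE H hUST hUSX hV).isoPullback.hom
  have hpush := (isIso_pushoutSection_iff H hUST hUSX hV).mp
    (isIso_pushoutSection_of_isAffineOpen H hUST hUSX hV (isAffineOpen_top _) U.2 (isAffineOpen_Dp N _ j))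
  refine ⟨haff, subring_eq_top_of_isPushout hpush _ (fun x => ?_) fun x => Subring.subset_closure (Or.inl ⟨x, rfl⟩)⟩
  let φ := fst.appLE (Dp N (ULift.{u} ℤ) j) V (hV.le.trans inf_le_left)
  let S := Subring.closure
      (Set.range (snd.appLE U.1 V (hV.le.trans inf_le_right)).hom ∪
        Set.range fun m => φ (ratio N (ULift.{u} ℤ) j m))
  have h : S.comap φ.hom = ⊤ := by
    refine sections_Dp_le N _ j _ (fun r => ?_) fun m => Subring.subset_closure (Or.inr ⟨m, rfl⟩)
    refine Subring.mem_comap.mpr ?_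
    let g : ULift.{u} ℤ →+* Γ(CohB1.ProjSpaceOver N X, V) := φ.hom.comp
      ((Proj.awayToSection (CohB1.polyGrading N (ULift.{u} ℤ)) (MvPolynomial.X j)).hom.comp
        (Groth.Agent.ProjSpace.const (ULift.{u} ℤ) j))
    show g r ∈ S
    rw [show r = ((r.down : ℤ) : ULift.{u} ℤ) from ULift.ext _ _ (by simp), map_intCast]
    exact intCast_mem S _
  exact (h.ge (Subring.mem_top x) : x ∈ S.comap φ.hom)

/-- The chart data of a closed subscheme of a relative projective space. -/
theorem exists_projData [IsIntegral X'] (f : X' ⟶ X) (i : X' ⟶ CohB1.ProjSpaceOver N X) [IsClosedImmersion i]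
    (hi : i ≫ CohB1.ProjSpaceOver.toBase N X = f) : Nonempty (ProjData f) := by
  classical
  subst hi
  let R := ULift.{u} ℤ
  let fst := pullback.fst (CohB1.ProjSpace.toSpec N R) (specULiftZIsTerminal.from X)
  let q : X' ⟶ CohB1.ProjSpace N R := i ≫ fst
  let W : {j : Fin (N + 1) // genericPoint X' ∈ q ⁻¹ᵁ Dp N R j} → X'.Opens := fun j => q ⁻¹ᵁ Dp N R j.1
  refine ⟨{ J := {j : Fin (N + 1) // genericPoint X' ∈ q ⁻¹ᵁ Dp N R j}
            fintypeJ := inferInstance
            W := W
            cover := fun x => ?_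
            mem := fun j => j.2
            a := fun m j => q.app (Dp N R m.1) (ratio N R m.1 j.1)
            basicOpen := fun m j => ?_
            cocycle := fun l m j => ?_
            affine := fun j U => ?_
            gen := fun j U => ?_ }⟩
  · have hx : q x ∈ ⨆ j, Dp N R j := (iSup_Dp N R).ge trivial
    obtain ⟨j, hj⟩ := TopologicalSpace.Opens.mem_iSup.mp hx
    exact ⟨⟨j, genericPoint_mem ⟨x, hj⟩⟩, hj⟩
  · rw [← Scheme.Hom.preimage_basicOpen, basicOpen_ratio]
    rfl
  · let P := CohB1.ProjSpace N R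
    have hg : q (genericPoint X') ∈ Dp N R m.1 ⊓ Dp N R l.1 := ⟨m.2, l.2⟩
    have key : ∀ (D : P.Opens) (hD : Dp N R m.1 ⊓ Dp N R l.1 ≤ D) (h' : genericPoint X' ∈ q ⁻¹ᵁ D) (s : Γ(P, D)),
        X'.presheaf.germ (q ⁻¹ᵁ D) _ h' (q.app D s) =
          q.stalkMap (genericPoint X') (P.presheaf.germ _ _ hg (P.presheaf.map (homOfLE hD).op s)) := by
      intro D hD h' s
      rw [TopCat.Presheaf.germ_res_apply, Scheme.Hom.germ_stalkMap_apply]
    rw [key _ inf_le_left, key _ inf_le_right, key _ inf_le_right, ← map_mul, ← map_mul]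
    exact congrArg _ (congrArg _ (ratio_mul N R l.1 m.1 j.1 inf_le_left inf_le_right))
  · have h := ((affine_gen_over j.1 U _ rfl).1).preimage i
    exact h
  · obtain ⟨haff, hgen⟩ := affine_gen_over j.1 U _ rfl
    let V := fst ⁻¹ᵁ Dp N R j.1 ⊓ CohB1.ProjSpaceOver.toBase N X ⁻¹ᵁ U.1
    have hs := Scheme.Hom.app_surjective i V haff
    have h2 := congrArg (Subring.map (i.app V).hom) hgen
    rw [RingHom.map_closure, ← RingHom.range_eq_map, RingHom.range_eq_top.mpr hs, Set.image_union,
      ← Set.range_comp, ← Set.range_comp] at h2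
    rw [eq_top_iff]
    refine h2.ge.trans (Subring.closure_le.mpr (Set.union_subset ?_ ?_))
    · rintro _ ⟨x, rfl⟩
      refine Subring.subset_closure (Or.inl ⟨x, ?_⟩)
      exact (ConcreteCategory.congr_hom (Scheme.Hom.appLE_comp_appLE i (CohB1.ProjSpaceOver.toBase N X)
        U.1 V (i ⁻¹ᵁ V) inf_le_right le_rfl) x).symm.trans (by rw [Scheme.Hom.app_eq_appLE i]; rfl)
    · rintro _ ⟨m, rfl⟩
      by_cases hm : genericPoint X' ∈ q ⁻¹ᵁ Dp N R m
      · refine Subring.subset_closure (Or.inr ⟨⟨m, hm⟩, ?_⟩)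
        have := ConcreteCategory.congr_hom (Scheme.Hom.appLE_comp_appLE i fst
          (Dp N R j.1) V (i ⁻¹ᵁ V) inf_le_left le_rfl) (ratio N R j.1 m)
        simp only [Scheme.Hom.app_eq_appLE, Function.comp_apply] at this ⊢
        refine Eq.trans ?_ this.symm
        exact (ConcreteCategory.congr_hom (Scheme.Hom.appLE_map q (le_refl (q ⁻¹ᵁ Dp N R j.1))
          (homOfLE (inf_le_left : q ⁻¹ᵁ Dp N R j.1 ⊓ (i ≫ CohB1.ProjSpaceOver.toBase N X) ⁻¹ᵁ U.1 ≤ _)).op) _)
      · set t := (i.app V).hom (fst.appLE (Dp N R j.1) V inf_le_left (ratio N R j.1 m)) with ht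
        have h0 : t = 0 := by
          have hb : X'.basicOpen t = ⊥ := by
            rw [eq_bot_iff]
            intro x hx
            apply False.elim
            apply hm
            refine genericPoint_mem ⟨x, ?_⟩
            rw [ht, ← Scheme.Hom.preimage_basicOpen] at hx
            erw [Scheme.basicOpen_appLE, basicOpen_ratio] at hx
            exact hx.2.2
          exact (AlgebraicGeometry.basicOpen_eq_bot_iff t).mp hb
        show t ∈ _
        rw [h0]
        exact zero_mem _

end Over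

end Groth.Agent.BlowUp3
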