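import Groth.Agent.Lib.EffCartier.Mul
import Mathlib.RingTheory.Finiteness.Ideal

/-!
# Powers of ideals of finite type and supports
-/

set_option autoImplicit false
set_option backward.isDefEq.respectTransparency.types false
universe u

open CategoryTheory AlgebraicGeometry

namespace Groth.Agent.BlowUp3

variable {X Y : Scheme.{u}}

theorem exists_pow_le [CompactSpace X] {A B : X.IdealSheafData} (hA : BlowUp.IsFiniteTypeIdeal A)
    (h : (B.support : Set X) ⊆ A.support) : ∃ n, A ^ (n + 1) ≤ B := by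
  have hrad : A ≤ B.radical := by
    rw [← Scheme.IdealSheafData.vanishingIdeal_support]
    exact (Scheme.IdealSheafData.le_support_iff_le_vanishingIdeal).1 h
  choose m hm using fun U : X.affineOpens => Ideal.exists_pow_le_of_le_radical_of_fg (hrad U) (hA U)
  obtain ⟨t, ht⟩ := isCompact_univ.elim_finite_subcover (fun U : X.affineOpens => (U.1 : Set X)) (fun U => U.1.2)
    (fun x _ => by
      obtain ⟨_, ⟨U, hU, rfl⟩, hxU, -⟩ := X.isBasis_affineOpens.exists_subset_of_mem_open (Set.mem_univ x) isOpen_univ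
      exact Set.mem_iUnion.2 ⟨⟨U, hU⟩, hxU⟩)
  refine ⟨t.sup m, Scheme.IdealSheafData.le_of_iSup_eq_top (fun U : t => (U.1 : X.affineOpens)) ?_ fun U => ?_⟩
  · rw [eq_top_iff]
    intro x _
    obtain ⟨U, hU, hxU⟩ := Set.mem_iUnion₂.1 (ht (Set.mem_univ x))
    exact TopologicalSpace.Opens.mem_iSup.2 ⟨⟨U, hU⟩, hxU⟩
  · rw [Scheme.IdealSheafData.ideal_pow]
    exact (Ideal.pow_le_pow_right ((Finset.le_sup U.2).trans (Nat.le_succ _))).trans (hm U.1)

theorem comap_pow (A : X.IdealSheafData) (φ : Y ⟶ X) : ∀ n : ℕ, (A ^ (n + 1)).comap φ = A.comap φ ^ (n + 1)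
  | 0 => by rw [zero_add, pow_one, pow_one]
  | n + 1 => by rw [pow_succ, EffCartier.comap_mul, comap_pow A φ n, ← pow_succ]

theorem isFiniteTypeIdeal_pow {A : X.IdealSheafData} (hA : BlowUp.IsFiniteTypeIdeal A) (n : ℕ) :
    BlowUp.IsFiniteTypeIdeal (A ^ n) := fun U => by
  rw [Scheme.IdealSheafData.ideal_pow]
  exact Ideal.FG.pow (hA U)

end Groth.Agent.BlowUp3
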