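import Groth.Prelude.Def_BlowUp2
import Groth.Agent.Lib.BlowUpExist.Chart
import Groth.Agent.Lib.EffCartier.Mul
import Mathlib.AlgebraicGeometry.Gluing

/-!
# A criterion for being a blowing up
-/

set_option autoImplicit false
set_option linter.style.haveILetI false
set_option backward.isDefEq.respectTransparency.types false
universe u

open CategoryTheory CategoryTheory.Limits AlgebraicGeometry

namespace Groth.Agent.BlowUp3

open Groth.Agent.EffCartier

variable {X' X Y : Scheme.{u}}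

/-- Ring maps out of an algebra generated by ratios are determined on the base, and exist. -/
theorem existsUnique_extension {A B R : Type u} [CommRing A] [CommRing B] [CommRing R] [IsDomain B] {J : Type}
    (e : J → A) (k : J) (φ : A →+* B) (hφ : Function.Injective φ) (he : e k ≠ 0) (b : J → B)
    (hb : ∀ j, φ (e j) = b j * φ (e k)) (hgen : Subring.closure (Set.range φ ∪ Set.range b) = ⊤)
    (φ' : A →+* R) (hnzd : φ' (e k) ∈ nonZeroDivisors R)
    (hdvd : ∀ j, φ' (e k) ∣ φ' (e j)) : ∃! Φ : B →+* R, Φ.comp φ = φ' := by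
  let I : Ideal A := Ideal.span (Set.range e)
  have hmap : ∀ {S : Type u} [CommRing S] (g : A →+* S), (∀ j, g (e k) ∣ g (e j)) →
      I.map g ≤ Ideal.span {g (e k)} := by
    intro S _ g hg
    rw [Ideal.map_span, Ideal.span_le]
    rintro _ ⟨_, ⟨j, rfl⟩, rfl⟩
    exact Ideal.mem_span_singleton.mpr (hg j)
  have hne : φ (e k) ≠ 0 := fun h => he (hφ (h.trans (map_zero φ).symm))
  obtain ⟨ψ, hψ, -⟩ := BlowUpExist.existsUnique_lift I (e k) φ (mem_nonZeroDivisors_of_ne_zero hne)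
    (hmap φ fun j => ⟨b j, (hb j).trans (mul_comm _ _)⟩)
  have hinj : Function.Injective ψ := by
    rw [injective_iff_map_eq_zero]
    rintro ⟨q, hq⟩ h
    obtain ⟨⟨x, ⟨_, p, rfl⟩⟩, hx⟩ := IsLocalization.surj (Submonoid.powers (e k)) q
    have h2 : (⟨q, hq⟩ : BlowUp.affineAlgebra A I (e k)) * algebraMap A _ (e k ^ p) = algebraMap A _ x :=
      Subtype.ext hx
    have h3 := congrArg ψ h2
    rw [map_mul, h, zero_mul, ← RingHom.comp_apply, hψ] at h3
    have hx0 : x = 0 := hφ (h3.symm.trans (map_zero φ).symm)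
    apply Subtype.ext
    show q = 0
    simp only [hx0, map_zero] at hx
    exact (IsLocalization.map_units (Localization.Away (e k))
      (⟨e k ^ p, p, rfl⟩ : Submonoid.powers (e k))).mul_left_eq_zero.mp hx
  have hsurj : Function.Surjective ψ := by
    rw [← RingHom.range_eq_top, ← top_le_iff, ← hgen, Subring.closure_le, Set.union_subset_iff]
    refine ⟨?_, ?_⟩
    · rintro _ ⟨a, rfl⟩
      exact ⟨algebraMap A _ a, RingHom.congr_fun hψ a⟩
    · rintro _ ⟨j, rfl⟩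
      let q : BlowUp.affineAlgebra A I (e k) :=
        ⟨IsLocalization.mk' (Localization.Away (e k)) (e j) ⟨e k, Submonoid.mem_powers _⟩,
          Algebra.subset_adjoin ⟨e j, Ideal.subset_span ⟨j, rfl⟩, rfl⟩⟩
      refine ⟨q, ?_⟩
      have h2 : q * algebraMap A _ (e k) = algebraMap A _ (e j) :=
        Subtype.ext (IsLocalization.mk'_spec (Localization.Away (e k)) (e j) ⟨e k, Submonoid.mem_powers _⟩)
      have h3 := congrArg ψ h2
      rw [map_mul, ← RingHom.comp_apply, hψ, ← RingHom.comp_apply, hψ, hb j] at h3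
      exact mul_right_cancel₀ hne h3
  let eq' := RingEquiv.ofBijective ψ ⟨hinj, hsurj⟩
  obtain ⟨ψ', hψ', huniq⟩ := BlowUpExist.existsUnique_lift I (e k) φ' hnzd (hmap φ' hdvd)
  refine ⟨ψ'.comp eq'.symm.toRingHom, RingHom.ext fun a => ?_, fun Φ hΦ => RingHom.ext fun z => ?_⟩
  · have h1 : eq'.symm (φ a) = algebraMap A _ a := eq'.symm_apply_eq.mpr (RingHom.congr_fun hψ a).symm
    show ψ' (eq'.symm (φ a)) = _
    rw [h1, ← RingHom.comp_apply, hψ']
  · obtain ⟨q, rfl⟩ := hsurj z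
    have h1 : Φ.comp ψ = ψ' := huniq _ (show (Φ.comp ψ).comp (algebraMap A _) = φ' by
      rw [RingHom.comp_assoc, hψ, hΦ])
    show Φ (ψ q) = ψ' (eq'.symm (ψ q))
    rw [show eq'.symm (ψ q) = q from eq'.symm_apply_apply q, ← h1]
    rfl

/-- Data exhibiting a morphism as the blowing up of a finitely generated ideal. -/
structure ChartCrit (f : X' ⟶ X) (I : X.IdealSheafData) where
  κ : Type
  J : Type
  fintypeJ : Fintype J
  U : κ → X.affineOpens
  cover : ∀ x : X, ∃ l, x ∈ (U l).1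
  e : ∀ l, J → Γ(X, (U l).1)
  ideal_eq : ∀ l, I.ideal (U l) = Ideal.span (Set.range (e l))
  ne_zero : ∀ l j, e l j ≠ 0
  V : κ → J → X'.affineOpens
  le : ∀ l j, (V l j).1 ≤ f ⁻¹ᵁ (U l).1
  covers : ∀ (l : κ) (x : X'), f x ∈ (U l).1 → ∃ j, x ∈ (V l j).1
  nonempty : ∀ l j, Nonempty (V l j).1
  injective : ∀ l j, Function.Injective (f.appLE (U l).1 (V l j).1 (le l j)).hom
  r : ∀ l j, J → Γ(X', (V l j).1)
  rel : ∀ l j m, f.appLE (U l).1 (V l j).1 (le l j) (e l m) = r l j m * f.appLE (U l).1 (V l j).1 (le l j) (e l j)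
  basicOpen_le : ∀ l j m, X'.basicOpen (r l j m) ≤ (V l m).1
  gen : ∀ l j, Subring.closure (Set.range (f.appLE (U l).1 (V l j).1 (le l j)).hom ∪ Set.range (r l j)) = ⊤

namespace ChartCrit

variable {f : X' ⟶ X} {I : X.IdealSheafData}

theorem comap_ideal_V (D : ChartCrit f I) (l : D.κ) (j : D.J) :
    (I.comap f).ideal (D.V l j) = Ideal.span {f.appLE (D.U l).1 (D.V l j).1 (D.le l j) (D.e l j)} := by
  rw [comap_ideal I f (D.U l) (D.V l j) (D.le l j), D.ideal_eq, Ideal.map_span]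
  refine le_antisymm (Ideal.span_le.mpr ?_) (Ideal.span_mono ?_)
  · rintro _ ⟨_, ⟨m, rfl⟩, rfl⟩
    exact Ideal.mem_span_singleton'.mpr ⟨D.r l j m, (D.rel l j m).symm⟩
  · rintro _ rfl
    exact ⟨_, ⟨j, rfl⟩, rfl⟩

theorem isEff [IsIntegral X'] (D : ChartCrit f I) : BlowUp.IsEffCartierIdeal (I.comap f) := by
  intro x
  obtain ⟨l, hl⟩ := D.cover (f x)
  obtain ⟨j, hj⟩ := D.covers l x hl
  haveI := D.nonempty l j
  refine ⟨D.V l j, hj, _, mem_nonZeroDivisors_of_ne_zero fun h => D.ne_zero l j ?_, D.comap_ideal_V l j⟩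
  exact D.injective l j (h.trans (map_zero _).symm)

/-- Near each point some generator generates the pulled back ideal. -/
theorem exists_local (D : ChartCrit f I) (g : Y ⟶ X) (hg : BlowUp.IsEffCartierIdeal (I.comap g)) (y : Y) :
    ∃ (l : D.κ) (j : D.J) (O : Y.affineOpens) (le : O.1 ≤ g ⁻¹ᵁ (D.U l).1), y ∈ O.1 ∧
      g.appLE (D.U l).1 O.1 le (D.e l j) ∈ nonZeroDivisors Γ(Y, O.1) ∧
      ∀ m, g.appLE (D.U l).1 O.1 le (D.e l j) ∣ g.appLE (D.U l).1 O.1 le (D.e l m) := by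
  classical
  haveI := D.fintypeJ
  obtain ⟨l, hl⟩ := D.cover (g y)
  obtain ⟨O, hyO, hO, f0, hf0⟩ := exists_isEqn hg (x := y) (W := g ⁻¹ᵁ (D.U l).1) hl
  let b : D.J → Γ(Y, O.1) := fun m => g.appLE (D.U l).1 O.1 hO (D.e l m)
  have hspan : Ideal.span (Set.range b) = Ideal.span {f0} := by
    rw [← hf0.ideal_eq, comap_ideal I g (D.U l) O hO, D.ideal_eq, Ideal.map_span, ← Set.range_comp]
    rfl
  choose c hc using fun m => Ideal.mem_span_singleton.mp (hspan.le (Ideal.subset_span ⟨m, rfl⟩))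
  obtain ⟨d, hd⟩ := Ideal.mem_span_range_iff_exists_fun.mp (hspan.ge (Ideal.subset_span rfl))
  have h1 : ∑ m, d m * c m = 1 := by
    refine (mul_cancel_left_mem_nonZeroDivisors hf0.mem).mp ?_
    rw [mul_one, Finset.mul_sum]
    refine Eq.trans (Finset.sum_congr rfl fun m _ => ?_) hd
    rw [hc m]; ring
  obtain ⟨j, hj⟩ : ∃ j, y ∈ Y.basicOpen (c j) := by
    by_contra hne
    push Not at hne
    have hall : ∀ m, Y.presheaf.germ O.1 y hyO (c m) ∈ IsLocalRing.maximalIdeal (Y.presheaf.stalk y) := fun m =>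
      (IsLocalRing.mem_maximalIdeal _).mpr fun hu => hne m ((Y.mem_basicOpen _ y hyO).mpr hu)
    have h2 := congrArg (Y.presheaf.germ O.1 y hyO) h1
    rw [map_sum, map_one] at h2
    exact IsLocalRing.maximalIdeal.isMaximal _ |>.ne_top ((Ideal.eq_top_iff_one _).mpr (h2 ▸ sum_mem fun m _ => by
      rw [map_mul]; exact Ideal.mul_mem_left _ _ (hall m)))
  let O' := Y.affineBasicOpen (c j)
  have hO' : O'.1 ≤ O.1 := Y.basicOpen_le (c j)
  let ρ := Y.presheaf.map (homOfLE hO').op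
  have hu : IsUnit (ρ (c j)) := Y.toRingedSpace.isUnit_res_basicOpen (c j)
  have hb : ∀ m, g.appLE (D.U l).1 O'.1 (hO'.trans hO) (D.e l m) = ρ f0 * ρ (c m) := fun m => by
    rw [← map_mul, ← hc m]
    exact (ConcreteCategory.congr_hom (Scheme.Hom.appLE_map g hO (homOfLE hO').op) (D.e l m)).symm
  refine ⟨l, j, O', hO'.trans hO, hj, ?_, fun m => ?_⟩
  · rw [hb]
    exact mul_mem (hf0.basicOpen (c j)).mem hu.mem_nonZeroDivisors
  · rw [hb, hb]
    exact (IsUnit.mul_right_dvd hu).mpr (dvd_mul_right _ _)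

/-- A lift carries a point where a generator generates into the corresponding chart. -/
theorem mem_V (D : ChartCrit f I) (g : Y ⟶ X) (h : Y ⟶ X') (hh : h ≫ f = g) (l : D.κ) (j : D.J)
    (O : Y.affineOpens) (le : O.1 ≤ g ⁻¹ᵁ (D.U l).1) {y : Y} (hy : y ∈ O.1)
    (hnzd : g.appLE (D.U l).1 O.1 le (D.e l j) ∈ nonZeroDivisors Γ(Y, O.1))
    (hdvd : ∀ m, g.appLE (D.U l).1 O.1 le (D.e l j) ∣ g.appLE (D.U l).1 O.1 le (D.e l m)) :
    h y ∈ (D.V l j).1 := by
  subst hh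
  obtain ⟨m, hm⟩ := D.covers l (h y) (le hy)
  obtain ⟨r, hr, hyr⟩ := O.2.exists_basicOpen_le (V := h ⁻¹ᵁ (D.V l m).1) ⟨y, hm⟩ hy
  let O' := Y.affineBasicOpen r
  have hO' : O'.1 ≤ O.1 := Y.basicOpen_le r
  let ρ := Y.presheaf.map (homOfLE hO').op
  letI : Algebra Γ(Y, O.1) Γ(Y, O'.1) := ρ.hom.toAlgebra
  have : IsLocalization.Away r Γ(Y, O'.1) := O.2.isLocalization_basicOpen r
  have hm' : ρ ((h ≫ f).appLE (D.U l).1 O.1 le (D.e l j)) ∈ nonZeroDivisors Γ(Y, O'.1) :=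
    IsLocalization.map_nonZeroDivisors_le (Submonoid.powers r) Γ(Y, O'.1) ⟨_, hnzd, rfl⟩
  obtain ⟨d, hd⟩ := hdvd m
  let φ := f.appLE (D.U l).1 (D.V l m).1 (D.le l m)
  let ψ := h.appLE (D.V l m).1 O'.1 hr
  have hcomp : ∀ x, ρ ((h ≫ f).appLE (D.U l).1 O.1 le x) = ψ (φ x) := fun x =>
    (ConcreteCategory.congr_hom (Scheme.Hom.appLE_map (h ≫ f) le (homOfLE hO').op) x).trans
      (ConcreteCategory.congr_hom (Scheme.Hom.appLE_comp_appLE h f (D.U l).1 (D.V l m).1 O'.1 (D.le l m) hr) x).symm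
  have h1 : ψ (φ (D.e l j)) = ψ (D.r l m j) * ψ (φ (D.e l m)) := by
    rw [← map_mul, ← D.rel l m j]
  have h2 : ψ (φ (D.e l m)) = ψ (φ (D.e l j)) * ρ d := by
    rw [← hcomp, ← hcomp, hd, map_mul]
  have hu : IsUnit (ψ (D.r l m j)) := by
    rw [hcomp] at hm'
    refine IsUnit.of_mul_eq_one (ρ d) ((mul_cancel_left_mem_nonZeroDivisors hm').mp ?_)
    calc ψ (φ (D.e l j)) * (ψ (D.r l m j) * ρ d) = ψ (D.r l m j) * (ψ (φ (D.e l j)) * ρ d) := by ring
      _ = ψ (φ (D.e l j)) * 1 := by rw [← h2, ← h1, mul_one]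
  have h3 : Y.basicOpen (ψ (D.r l m j)) = O'.1 := Y.basicOpen_of_isUnit hu
  rw [Scheme.basicOpen_appLE] at h3
  exact D.basicOpen_le l m j (h3.ge hyr).2

theorem hom_ext [IsIntegral X'] (D : ChartCrit f I) (g : Y ⟶ X) (hg : BlowUp.IsEffCartierIdeal (I.comap g))
    {h h' : Y ⟶ X'} (hh : h ≫ f = g) (hh' : h' ≫ f = g) : h = h' := by
  choose l j O le hy hnzd hdvd using fun y => D.exists_local g hg y
  refine Scheme.Cover.hom_ext (Y.openCoverOfIsOpenCover (fun y => (O y).1)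
    (TopologicalSpace.IsOpenCover.mk (eq_top_iff.mpr fun y _ => TopologicalSpace.Opens.mem_iSup.mpr ⟨y, hy y⟩)))
    _ _ fun y => ?_
  show (O y).1.ι ≫ h = (O y).1.ι ≫ h'
  have hle : ∀ (k : Y ⟶ X'), k ≫ f = g → (O y).1 ≤ k ⁻¹ᵁ (D.V (l y) (j y)).1 := fun k hk z hz =>
    D.mem_V g k hk (l y) (j y) (O y) (le y) hz (hnzd y) (hdvd y)
  haveI := D.nonempty (l y) (j y)
  have key := existsUnique_extension (D.e (l y)) (j y) _ (D.injective (l y) (j y)) (D.ne_zero _ _) (D.r (l y) (j y))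
    (D.rel (l y) (j y)) (D.gen (l y) (j y)) (g.appLE _ _ (le y)).hom (hnzd y) (hdvd y)
  have hk : ∀ (k : Y ⟶ X') (hk : k ≫ f = g), (k.appLE (D.V (l y) (j y)).1 (O y).1 (hle k hk)).hom.comp
      (f.appLE (D.U (l y)).1 (D.V (l y) (j y)).1 (D.le (l y) (j y))).hom = (g.appLE _ _ (le y)).hom := by
    rintro k rfl
    rw [← CommRingCat.hom_comp, Scheme.Hom.appLE_comp_appLE]
  have heq : h.appLE _ _ (hle h hh) = h'.appLE _ _ (hle h' hh') :=
    CommRingCat.hom_ext (key.unique (hk h hh) (hk h' hh'))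
  rw [← (O y).2.isoSpec_hom_fromSpec, Category.assoc, Category.assoc,
    ← IsAffineOpen.SpecMap_appLE_fromSpec h (D.V (l y) (j y)).2 (O y).2 (hle h hh),
    ← IsAffineOpen.SpecMap_appLE_fromSpec h' (D.V (l y) (j y)).2 (O y).2 (hle h' hh'), heq]

theorem isBlowUp [IsIntegral X'] (D : ChartCrit f I) : BlowUp.IsBlowUp f I := by
  refine ⟨D.isEff, fun Y g hg => ?_⟩
  choose l j O le hy hnzd hdvd using fun y => D.exists_local g hg y
  let 𝒰 := Y.openCoverOfIsOpenCover (fun y => (O y).1)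
    (TopologicalSpace.IsOpenCover.mk (eq_top_iff.mpr fun y _ => TopologicalSpace.Opens.mem_iSup.mpr ⟨y, hy y⟩))
  have hex : ∀ y, ∃ k : (O y).1.toScheme ⟶ X', k ≫ f = (O y).1.ι ≫ g := by
    intro y
    haveI := D.nonempty (l y) (j y)
    obtain ⟨Φ, hΦ, -⟩ := existsUnique_extension (D.e (l y)) (j y) _ (D.injective (l y) (j y)) (D.ne_zero _ _)
      (D.r (l y) (j y)) (D.rel (l y) (j y)) (D.gen (l y) (j y)) (g.appLE _ _ (le y)).hom (hnzd y) (hdvd y)
    refine ⟨(O y).2.isoSpec.hom ≫ Spec.map (CommRingCat.ofHom Φ) ≫ (D.V (l y) (j y)).2.fromSpec, ?_⟩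
    have hc : f.appLE (D.U (l y)).1 (D.V (l y) (j y)).1 (D.le _ _) ≫ CommRingCat.ofHom Φ =
        g.appLE (D.U (l y)).1 (O y).1 (le y) := CommRingCat.hom_ext hΦ
    rw [Category.assoc, Category.assoc,
      ← IsAffineOpen.SpecMap_appLE_fromSpec f (D.U (l y)).2 (D.V (l y) (j y)).2 (D.le _ _), ← Spec.map_comp_assoc,
      hc, IsAffineOpen.SpecMap_appLE_fromSpec g (D.U (l y)).2 (O y).2 (le y), ← Category.assoc,
      IsAffineOpen.isoSpec_hom_fromSpec]
  choose k hk using hex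
  have hcomp : ∀ a b, pullback.fst (𝒰.f a) (𝒰.f b) ≫ k a = pullback.snd (𝒰.f a) (𝒰.f b) ≫ k b := by
    intro a b
    refine D.hom_ext (pullback.fst (𝒰.f a) (𝒰.f b) ≫ (O a).1.ι ≫ g) ?_ ?_ ?_
    · rw [← Category.assoc, Scheme.IdealSheafData.comap_comp]
      exact BlowUpExist.isEffCartierIdeal_comap_of_isOpenImmersion hg
        (pullback.fst (𝒰.f a) (𝒰.f b) ≫ 𝒰.f a)
    · exact (Category.assoc _ _ _).trans (congrArg (pullback.fst (𝒰.f a) (𝒰.f b) ≫ ·) (hk a))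
    · refine ((Category.assoc _ _ _).trans (congrArg (pullback.snd (𝒰.f a) (𝒰.f b) ≫ ·) (hk b))).trans ?_
      exact ((Category.assoc _ _ _).symm.trans (congrArg (· ≫ g) pullback.condition.symm)).trans (Category.assoc _ _ _)
  refine ⟨Scheme.Cover.glueMorphisms 𝒰 k hcomp, ?_, fun h hh => ?_⟩
  · refine Scheme.Cover.hom_ext 𝒰 _ _ fun a => ?_
    rw [Scheme.Cover.ι_glueMorphisms_assoc]
    exact hk a
  · refine D.hom_ext g hg hh ?_
    refine Scheme.Cover.hom_ext 𝒰 _ _ fun a => ?_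
    rw [Scheme.Cover.ι_glueMorphisms_assoc]
    exact hk a

end ChartCrit

end Groth.Agent.BlowUp3
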