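import Groth.Agent.Lib.RegLoc.Sop
import Groth.Agent.Lib.RegLoc.Basic
import Groth.Agent.S5802
import Groth.Agent.Lib.BlowAlg3.Basic
import Groth.Agent.Lib.BlowUpExist.Chart

/-!
# The order function of a regular local ring and the chart of its blow-up
-/

set_option autoImplicit false
universe u

open IsLocalRing

namespace Groth.Agent.BlowUp3

variable {A : Type u} [CommRing A] [IsRegularLocalRing A]

theorem exists_homogeneous {d : ℕ} (x : Fin d → A) (hx : Ideal.span (Set.range x) = maximalIdeal A) {μ : ℕ} {f : A}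
    (hf : f ∈ maximalIdeal A ^ μ) (hf' : f ∉ maximalIdeal A ^ (μ + 1)) :
    ∃ P : MvPolynomial (Fin d) A, P.IsHomogeneous μ ∧ MvPolynomial.eval x P = f ∧
      MvPolynomial.map (Ideal.Quotient.mk (maximalIdeal A)) P ≠ 0 := by
  obtain ⟨P, hP, hPf⟩ := (Ideal.mem_span_pow_iff_exists_isHomogeneous x f).1 (hx.symm ▸ hf)
  refine ⟨P, hP, hPf, fun h => hf' ?_⟩
  rw [← hPf, MvPolynomial.eval_eq, pow_succ']
  refine Ideal.sum_mem _ fun s hs => ?_
  refine Ideal.mul_mem_mul ?_ ?_
  · rw [← Ideal.Quotient.eq_zero_iff_mem, ← MvPolynomial.coeff_map, h, MvPolynomial.coeff_zero]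
  · have hdeg : ∑ i ∈ s.support, s i = μ := by
      rw [← Finsupp.degree_apply, Finsupp.degree_eq_weight_one]
      exact hP (MvPolynomial.mem_support_iff.1 hs)
    rw [← hdeg, ← Finset.prod_pow_eq_pow_sum]
    exact Ideal.prod_mem_prod fun i _ => Ideal.pow_mem_pow (hx ▸ Ideal.subset_span ⟨i, rfl⟩) _

/-- The order is additive on products. -/
theorem mul_notMem {μ ν : ℕ} {f g : A} (hf : f ∈ maximalIdeal A ^ μ) (hf' : f ∉ maximalIdeal A ^ (μ + 1))
    (hg : g ∈ maximalIdeal A ^ ν) (hg' : g ∉ maximalIdeal A ^ (ν + 1)) :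
    f * g ∉ maximalIdeal A ^ (μ + ν + 1) := by
  obtain ⟨x, hx⟩ := RegLoc.exists_fin_generators A
  have hreg := RegLoc.isRegular_of_span_range _ A x hx rfl
  have hq := S5802.result A _ x hreg.toIsWeaklyRegular
  obtain ⟨P, hP, hPf, hP0⟩ := exists_homogeneous x hx hf hf'
  obtain ⟨Q, hQ, hQg, hQ0⟩ := exists_homogeneous x hx hg hg'
  intro h
  have hc := hq (μ + ν) (P * Q) (hP.mul hQ) (by rw [map_mul, hPf, hQg, hx]; exact h)
  haveI := Ideal.Quotient.field (maximalIdeal A)
  refine mul_ne_zero hP0 hQ0 ?_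
  rw [← map_mul]
  ext d
  rw [MvPolynomial.coeff_map, MvPolynomial.coeff_zero, Ideal.Quotient.eq_zero_iff_mem]
  exact hx.le (hc d)

theorem pow_notMem {μ : ℕ} {f : A} (hf : f ∈ maximalIdeal A ^ μ) (hf' : f ∉ maximalIdeal A ^ (μ + 1)) :
    ∀ j : ℕ, f ^ j ∉ maximalIdeal A ^ (μ * j + 1)
  | 0 => by
    rw [pow_zero, mul_zero, zero_add, pow_one]
    exact fun h => (maximalIdeal.isMaximal A).ne_top ((Ideal.eq_top_iff_one _).2 h)
  | j + 1 => by
    rw [pow_succ f, mul_add, mul_one]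
    exact mul_notMem (by rw [pow_mul]; exact Ideal.pow_mem_pow hf j) (pow_notMem hf hf' j) hf hf'

/-- An element of order `μ` is not divisible by `x ^ (μ + 1)` in the chart `A[𝔪/x]`. -/
theorem not_dvd {μ : ℕ} {f : A} (hf : f ∈ maximalIdeal A ^ μ) (hf' : f ∉ maximalIdeal A ^ (μ + 1))
    {x : A} (hx : x ∈ maximalIdeal A) (hx' : x ∉ maximalIdeal A ^ 2) :
    ¬ algebraMap A (BlowUp.affineAlgebra A (maximalIdeal A) x) x ^ (μ + 1) ∣
      algebraMap A (BlowUp.affineAlgebra A (maximalIdeal A) x) f := by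
  rintro ⟨⟨q, hq⟩, hc⟩
  haveI := RegLoc.isDomain A
  obtain ⟨n, a, ha, rfl⟩ := (BlowAlg3.mem_iff hx q).1 hq
  have h : algebraMap A (Localization.Away x) f =
      algebraMap A (Localization.Away x) (x ^ (μ + 1)) * BlowAlg3.frac x n a := by
    have := congrArg Subtype.val hc
    simp only [Subalgebra.coe_mul, Subalgebra.coe_algebraMap, SubmonoidClass.coe_pow] at this
    rw [map_pow]; exact this
  have hx0 : x ≠ 0 := fun h => hx' (h ▸ zero_mem _)
  have hinj : Function.Injective (algebraMap A (Localization.Away x)) :=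
    IsLocalization.injective _ (M := Submonoid.powers x) (powers_le_nonZeroDivisors_of_noZeroDivisors hx0)
  have h2 : x ^ n * f = x ^ (μ + 1) * a := by
    apply hinj
    rw [map_mul, map_mul, h, ← BlowAlg3.pow_mul_frac n a]
    ring
  have h3 : x ^ (μ + 1) * a ∈ maximalIdeal A ^ (n + μ + 1) := by
    rw [show n + μ + 1 = (μ + 1) + n by omega, pow_add]
    exact Ideal.mul_mem_mul (Ideal.pow_mem_pow hx _) ha
  rw [← h2] at h3
  have h4 := pow_notMem (μ := 1) (by rwa [pow_one]) hx' n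
  rw [one_mul] at h4
  exact mul_notMem (Ideal.pow_mem_pow hx n) h4 hf hf' h3

end Groth.Agent.BlowUp3
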