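import Groth.Agent.Lib.BlowUp3.Criterion
import Groth.Agent.Lib.BlowUp3.ProjData
import Groth.Agent.Lib.HilbObs3.IdealGlue

/-!
# Projective birational morphisms are blowing ups
-/

set_option autoImplicit false
set_option linter.style.haveILetI false
set_option backward.isDefEq.respectTransparency.types false
universe u

open CategoryTheory CategoryTheory.Limits AlgebraicGeometry

namespace Groth.Agent.BlowUp3

variable {X' X : Scheme.{u}}

/-- An affine open that is, on the members of a finite affine cover, the non-vanishing locus of functions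
differing by units: the complement of an effective divisor. -/
structure TwistData [IsIntegral X] where
  n : ℕ
  U : Fin n → X.affineOpens
  cover : ⨆ l, (U l).1 = ⊤
  mem : ∀ l, genericPoint X ∈ (U l).1
  U₀ : X.affineOpens
  mem₀ : genericPoint X ∈ U₀.1
  σ : ∀ l, Γ(X, (U l).1)
  basicOpen : ∀ l, X.basicOpen (σ l) = U₀.1 ⊓ (U l).1
  unit : ∀ (l m : Fin n) (W : X.affineOpens) (hl : W.1 ≤ (U l).1) (hm : W.1 ≤ (U m).1),
    ∃ c : Γ(X, W.1), IsUnit c ∧
      X.presheaf.map (homOfLE hl).op (σ l) = c * X.presheaf.map (homOfLE hm).op (σ m)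

/-- Clearing denominators and twisting: finitely many rational functions become sections of one ideal. -/
theorem exists_sections [IsIntegral X] (T : TwistData (X := X)) {J : Type} [Fintype J] (p : X)
    (hp : p = genericPoint X) (hpU : ∀ l, p ∈ (T.U l).1) (z : J → X.presheaf.stalk p) :
    ∃ (N : ℕ) (c : X.presheaf.stalk p) (e : ∀ l, J → Γ(X, (T.U l).1)), c ≠ 0 ∧
      ∀ l j, X.presheaf.germ (T.U l).1 p (hpU l) (e l j) =
        X.presheaf.germ (T.U l).1 p (hpU l) (T.σ l) ^ N * c * z j := by
  classical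
  have hp₀ : p ∈ T.U₀.1 := hp ▸ T.mem₀
  letI := TopCat.Presheaf.algebra_section_stalk X.presheaf (⟨p, hp₀⟩ : T.U₀.1)
  haveI := T.U₀.2.isLocalization_stalk ⟨p, hp₀⟩
  obtain ⟨b, hb⟩ := IsLocalization.exist_integer_multiples
    (T.U₀.2.primeIdealOf ⟨p, hp₀⟩).asIdeal.primeCompl Finset.univ z
  choose y hy using fun j => hb j (Finset.mem_univ j)
  have hbu : IsUnit (X.presheaf.germ T.U₀.1 p hp₀ b.1) :=
    IsLocalization.map_units (X.presheaf.stalk p) b
  have hext : ∀ l j, ∃ (n : ℕ) (t : Γ(X, (T.U l).1)), X.presheaf.germ (T.U l).1 p (hpU l) t =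
      X.presheaf.germ (T.U l).1 p (hpU l) (T.σ l) ^ n * X.presheaf.germ T.U₀.1 p hp₀ (y j) := by
    intro l j
    let D := X.basicOpen (T.σ l)
    have hD : D ≤ T.U₀.1 := (T.basicOpen l).le.trans inf_le_left
    have hD' : D ≤ (T.U l).1 := X.basicOpen_le (T.σ l)
    have hpD : p ∈ D := (T.basicOpen l).ge ⟨hp₀, hpU l⟩
    letI : Algebra Γ(X, (T.U l).1) Γ(X, D) := (X.presheaf.map (homOfLE hD').op).hom.toAlgebra
    haveI : IsLocalization.Away (T.σ l) Γ(X, D) := (T.U l).2.isLocalization_basicOpen (T.σ l)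
    obtain ⟨n, t, ht⟩ := IsLocalization.Away.surj (T.σ l) (X.presheaf.map (homOfLE hD).op (y j))
    refine ⟨n, t, ?_⟩
    have h1 := congrArg (X.presheaf.germ D p hpD) ht
    simp only [RingHom.algebraMap_toAlgebra, map_mul, map_pow] at h1
    erw [TopCat.Presheaf.germ_res_apply, TopCat.Presheaf.germ_res_apply, TopCat.Presheaf.germ_res_apply] at h1
    rw [← h1, mul_comm]
  choose n t ht using hext
  let N := Finset.univ.sup fun q : Fin T.n × J => n q.1 q.2
  refine ⟨N, X.presheaf.germ T.U₀.1 p hp₀ b.1, fun l j => T.σ l ^ (N - n l j) * t l j, ?_, fun l j => ?_⟩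
  · subst hp
    exact hbu.ne_zero
  · have hn : n l j ≤ N := Finset.le_sup (f := fun q : Fin T.n × J => n q.1 q.2) (Finset.mem_univ (l, j))
    have hyj : X.presheaf.germ T.U₀.1 p hp₀ (y j) = X.presheaf.germ T.U₀.1 p hp₀ b.1 * z j := by
      have := hy j
      rw [Algebra.smul_def] at this
      exact this
    rw [map_mul, map_pow, ht, hyj, ← mul_assoc, ← pow_add, Nat.sub_add_cancel hn, mul_assoc]

theorem germ_appLE (f : X' ⟶ X) {U : X.Opens} {V : X'.Opens} (h : V ≤ f ⁻¹ᵁ U) (x : X') (hx : x ∈ V)
    (s : Γ(X, U)) : X'.presheaf.germ V x hx (f.appLE U V h s) =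
      f.stalkMap x (X.presheaf.germ U (f x) (h hx) s) := by
  rw [Scheme.Hom.germ_stalkMap_apply, Scheme.Hom.appLE]
  simp only [CommRingCat.comp_apply, TopCat.Presheaf.germ_res_apply]

theorem exists_isBlowUp [IsIntegral X'] [IsIntegral X] [QuasiSeparatedSpace X] (f : X' ⟶ X) (P : ProjData f)
    (T : TwistData (X := X)) (hη : f (genericPoint X') = genericPoint X)
    (hbij : Function.Bijective (f.stalkMap (genericPoint X'))) :
    ∃ I : X.IdealSheafData, BlowUp.IsBlowUp f I := by
  classical
  haveI := P.fintypeJ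
  obtain ⟨j0, -⟩ := P.cover (genericPoint X')
  have hpU : ∀ l, f (genericPoint X') ∈ (T.U l).1 := fun l => hη ▸ T.mem l
  choose z hz using fun j => hbij.2 (X'.presheaf.germ (P.W j0) _ (P.mem j0) (P.a j0 j))
  obtain ⟨N, c, e, hc, he⟩ := exists_sections T (f (genericPoint X')) hη hpU z
  have hz0 : ∀ j, z j ≠ 0 := by
    intro j h
    have h1 : genericPoint X' ∈ X'.basicOpen (P.a j0 j) := (P.basicOpen j0 j).ge ⟨P.mem j0, P.mem j⟩
    rw [Scheme.mem_basicOpen _ _ _ (P.mem j0)] at h1
    refine h1.ne_zero ?_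
    rw [← hz j, h, map_zero]
  have hginj : ∀ (U : X.Opens) (h : f (genericPoint X') ∈ U),
      Function.Injective (X.presheaf.germ U (f (genericPoint X')) h) := fun U h =>
    germ_injective_of_isIntegral X (f (genericPoint X')) h
  have hσ : ∀ l, X.presheaf.germ (T.U l).1 (f (genericPoint X')) (hpU l) (T.σ l) ≠ 0 := fun l h => by
    have h1 : f (genericPoint X') ∈ X.basicOpen (T.σ l) := (T.basicOpen l).ge ⟨hη ▸ T.mem₀, hpU l⟩
    rw [Scheme.mem_basicOpen _ _ _ (hpU l)] at h1
    exact h1.ne_zero h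
  have hne : ∀ l j, e l j ≠ 0 := fun l j h => by
    have h1 := he l j
    rw [h, map_zero] at h1
    haveI : IsDomain (X.presheaf.stalk (f (genericPoint X'))) := inferInstance
    exact mul_ne_zero (mul_ne_zero (pow_ne_zero N (hσ l)) hc) (hz0 j) h1.symm
  obtain ⟨I, hI⟩ := HilbObs3.exists_idealSheaf T.U T.cover (fun l => Ideal.span (Set.range (e l)))
    fun l m W hl hm => by
      by_cases hW : (W.1 : Set X).Nonempty
      · have hpW : f (genericPoint X') ∈ W.1 := hη ▸ genericPoint_mem hW
        obtain ⟨u, hu, heq⟩ := T.unit l m W hl hm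
        have key : ∀ j, X.presheaf.map (homOfLE hl).op (e l j) =
            u ^ N * X.presheaf.map (homOfLE hm).op (e m j) := fun j => by
          apply hginj W.1 hpW
          have h1 := congrArg (X.presheaf.germ W.1 _ hpW) heq
          simp only [map_mul, TopCat.Presheaf.germ_res_apply] at h1
          simp only [map_mul, map_pow, TopCat.Presheaf.germ_res_apply, he, h1]
          ring
        rw [Ideal.map_span, Ideal.map_span, ← Set.range_comp, ← Set.range_comp]
        refine le_antisymm (Ideal.span_le.mpr ?_) (Ideal.span_le.mpr ?_)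
        · rintro _ ⟨j, rfl⟩
          show X.presheaf.map (homOfLE hl).op (e l j) ∈ _
          rw [key j]
          exact Ideal.mul_mem_left _ _ (Ideal.subset_span ⟨j, rfl⟩)
        · rintro _ ⟨j, rfl⟩
          refine (Ideal.unit_mul_mem_iff_mem _ (hu.pow N)).mp ?_
          show u ^ N * X.presheaf.map (homOfLE hm).op (e m j) ∈ _
          rw [← key j]
          exact Ideal.subset_span ⟨j, rfl⟩
      · have hbot : W.1 = ⊥ := TopologicalSpace.Opens.ext (Set.not_nonempty_iff_eq_empty.mp hW)
        haveI : Subsingleton Γ(X, W.1) := hbot ▸ inferInstance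
        exact Subsingleton.elim _ _
  have hmemV : ∀ (l : Fin T.n) (j : P.J), genericPoint X' ∈ P.W j ⊓ f ⁻¹ᵁ (T.U l).1 :=
    fun l j => ⟨P.mem j, hpU l⟩
  refine ⟨I, ChartCrit.isBlowUp
    { κ := Fin T.n
      J := P.J
      fintypeJ := P.fintypeJ
      U := T.U
      cover := fun x => TopologicalSpace.Opens.mem_iSup.mp (T.cover.ge trivial)
      e := e
      ideal_eq := hI
      ne_zero := hne
      V := fun l j => ⟨P.W j ⊓ f ⁻¹ᵁ (T.U l).1, P.affine j (T.U l)⟩
      le := fun l j => inf_le_right
      covers := fun l x hx => (P.cover x).imp fun j hj => ⟨hj, hx⟩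
      nonempty := fun l j => ⟨⟨genericPoint X', hmemV l j⟩⟩
      injective := fun l j a b h => by
        apply hginj _ (hpU l)
        apply hbij.1
        have h1 := congrArg (X'.presheaf.germ _ _ (hmemV l j)) h
        rwa [germ_appLE, germ_appLE] at h1
      r := fun l j m => X'.presheaf.map (homOfLE inf_le_left).op (P.a j m)
      rel := fun l j m => by
        apply germ_injective_of_isIntegral X' (genericPoint X') (hmemV l j)
        rw [map_mul, germ_appLE, germ_appLE, TopCat.Presheaf.germ_res_apply, he, he]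
        simp only [map_mul, hz, ← P.cocycle j0 j m]
        ring
      basicOpen_le := fun l j m => by
        rw [Scheme.basicOpen_res, P.basicOpen]
        exact le_inf (inf_le_right.trans inf_le_right) (inf_le_left.trans inf_le_right)
      gen := fun l j => P.gen j (T.U l) }⟩

end Groth.Agent.BlowUp3
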