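import Groth.Agent.Lib.AdmBlowUp4.Separate
import Groth.Agent.Lib.EffCartier.Mul

/-!
# Separation by blowing up: closures in the base change
-/

set_option autoImplicit false
set_option backward.isDefEq.respectTransparency.types false
universe u

open CategoryTheory AlgebraicGeometry

namespace Groth.Agent.BlowUp3

open Groth.Agent.EffCartier AlgebraicGeometry.Scheme.IdealSheafData

variable {X Y : Scheme.{u}}

/-- The sections vanishing at a point. -/
noncomputable def van (U : X.Opens) (x : X) (hx : x ∈ U) : Ideal Γ(X, U) :=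
  (IsLocalRing.maximalIdeal (X.presheaf.stalk x)).comap (X.presheaf.germ U x hx).hom

theorem mem_van {U : X.Opens} {x : X} (hx : x ∈ U) (a : Γ(X, U)) : a ∈ van U x hx ↔ x ∉ X.basicOpen a := by
  rw [X.mem_basicOpen a x hx, van, Ideal.mem_comap, IsLocalRing.mem_maximalIdeal]
  rfl

theorem appLE_mem_van (g : Y ⟶ X) {U : X.Opens} {V : Y.Opens} (e : V ≤ g ⁻¹ᵁ U) {y : Y} (hy : y ∈ V)
    (a : Γ(X, U)) : g.appLE U V e a ∈ van V y hy ↔ a ∈ van U (g y) (e hy) := by
  rw [mem_van, mem_van, Scheme.Hom.appLE, CommRingCat.comp_apply, Scheme.basicOpen_res, ← Scheme.preimage_basicOpen]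
  exact not_congr ⟨fun h => h.2, fun h => ⟨hy, h⟩⟩

instance isPrime_van (U : X.Opens) (x : X) (hx : x ∈ U) : (van U x hx).IsPrime :=
  Ideal.IsPrime.comap _

theorem mem_van_of_mem_support {K : X.IdealSheafData} {V : X.affineOpens} {x : X} (hx : x ∈ V.1)
    (h : x ∈ K.support) {m : Γ(X, V.1)} (hm : m ∈ K.ideal V) : m ∈ van V.1 x hx :=
  (mem_van hx m).2 (AdmBlowUp4.basicOpen_mem_support hm h)

theorem not_mem_van_of_not_mem_support {E : X.IdealSheafData} {V : X.affineOpens} {f : Γ(X, V.1)}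
    (hE : E.ideal V = Ideal.span {f}) {x : X} (hx : x ∈ V.1) (h : x ∉ E.support) : f ∉ van V.1 x hx := by
  intro hf
  apply h
  rw [E.mem_support_iff_of_mem hx, hE, Scheme.zeroLocus_span, Scheme.zeroLocus_singleton]
  exact (mem_van hx f).1 hf

/-- Cofactors of a piece vanish on the closure of its part off the exceptional divisor. -/
theorem ideal_le_mul_van {E J : X.IdealSheafData} (hJE : J ≤ E) {U : X.affineOpens} {f : Γ(X, U.1)}
    (hE : E.ideal U = Ideal.span {f}) {A : Set X} (hA : A ⊆ J.support) (hA' : Disjoint A E.support)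
    {x : X} (hx : x ∈ closure A) (hxU : x ∈ U.1) :
    J.ideal U ≤ Ideal.span {f} * van U.1 x hxU := by
  intro t ht
  obtain ⟨a, rfl⟩ := Ideal.mem_span_singleton'.1 (hE ▸ hJE U ht)
  rw [mul_comm a f] at ht ⊢
  refine Ideal.mul_mem_mul (Ideal.mem_span_singleton_self f) ((mem_van hxU a).2 fun hxa => ?_)
  obtain ⟨w, hwa, hwA⟩ := mem_closure_iff.1 hx _ (X.basicOpen a).2 hxa
  exact AdmBlowUp4.not_mem_basicOpen_cofactor hE ht (X.basicOpen_le a hwa) (hA hwA)
    (Set.disjoint_left.1 hA' hwA) hwa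

/-- A relation `F a ∈ F 𝔪_z + K` with `a(z) ≠ 0` separates `z` from the part of `supp K` where `F ≠ 0`. -/
theorem not_mem_closure {K : X.IdealSheafData} {V : X.affineOpens} {z : X} (hz : z ∈ V.1) {F a : Γ(X, V.1)}
    (ha : a ∉ van V.1 z hz) (h : F * a ∈ Ideal.span {F} * van V.1 z hz ⊔ K.ideal V) {B : Set X}
    (hBK : B ⊆ K.support) (hBF : ∀ w ∈ B, ∀ hw : w ∈ V.1, F ∉ van V.1 w hw) : z ∉ closure B := by
  intro hzB
  obtain ⟨u, hu, m, hm, hum⟩ := Submodule.mem_sup.1 h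
  obtain ⟨n, hn, rfl⟩ := Ideal.mem_span_singleton_mul.1 hu
  have hd : a - n ∉ van V.1 z hz := fun h => ha (by simpa using add_mem h hn)
  obtain ⟨w, hwd, hwB⟩ := mem_closure_iff.1 hzB _ (X.basicOpen (a - n)).2
    (not_not.1 (mt (mem_van hz _).2 hd))
  have hwV : w ∈ V.1 := X.basicOpen_le _ hwd
  have hmw : F * (a - n) ∈ van V.1 w hwV := by
    have : F * (a - n) = m := by linear_combination -hum
    rw [this]; exact mem_van_of_mem_support hwV (hBK hwB) hm
  exact (mem_van hwV _).1 ((Ideal.IsPrime.mem_or_mem inferInstance hmw).resolve_left (hBF w hwB hwV)) hwd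

/-- The common form of the separation statements: `(J₂ ≤ J₁ ^ 2)` or `(E ≤ J₁)` modulo `K`. -/
theorem disjoint_closure_preimage (s : Y ⟶ X) {E J M T : X.IdealSheafData} {K : Y.IdealSheafData}
    (hE : BlowUp.IsEffCartierIdeal E) (hJE : J ≤ E) {A : Set X} (hA : A ⊆ J.support)
    (hA' : Disjoint A E.support) (hMT : M.comap s ≤ T.comap s ⊔ K)
    (hT : ∀ (U : X.affineOpens) (f : Γ(X, U.1)) (P : Ideal Γ(X, U.1)), E.ideal U = Ideal.span {f} →
      J.ideal U ≤ Ideal.span {f} * P → T.ideal U ≤ Ideal.span {f} * P)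
    (hM : E ≤ J ⊔ M) {B : Set Y} (hB : B ⊆ K.support) (hB' : ∀ w ∈ B, s w ∉ E.support) :
    Disjoint (closure B) (s ⁻¹' closure A) := by
  rw [Set.disjoint_left]
  intro z hzB hzA
  obtain ⟨U, hzU, f, hf⟩ := isEffCartierIdeal_iff.mp hE (s z)
  obtain ⟨_, ⟨V, hV, rfl⟩, hzV, hVU : V ≤ s ⁻¹ᵁ U.1⟩ :=
    Y.isBasis_affineOpens.exists_subset_of_mem_open (show z ∈ s ⁻¹ᵁ U.1 from hzU) (s ⁻¹ᵁ U.1).isOpen
  let φ := (s.appLE U.1 V hVU).hom
  have hJ := ideal_le_mul_van hJE hf.ideal_eq hA hA' hzA hzU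
  have hf' : f ∈ J.ideal U ⊔ M.ideal U := by
    have h1 : f ∈ E.ideal U := hf.ideal_eq ▸ Ideal.mem_span_singleton_self f
    have h2 := hM U h1
    rwa [Scheme.IdealSheafData.ideal_sup] at h2
  obtain ⟨j₁, hj₁, j₂, hj₂, hsum⟩ := Submodule.mem_sup.1 hf'
  obtain ⟨n, hn, rfl⟩ := Ideal.mem_span_singleton_mul.1 (hJ hj₁)
  have hj₂' : j₂ = f * (1 - n) := by linear_combination hsum
  have ha : φ (1 - n) ∉ van V z hzV := fun h => by
    have := add_mem ((appLE_mem_van s hVU hzV (1 - n)).1 h) hn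
    rw [sub_add_cancel] at this
    exact (Ideal.IsPrime.ne_top inferInstance) ((Ideal.eq_top_iff_one _).2 this)
  refine not_mem_closure (V := ⟨V, hV⟩) hzV (F := φ f) ha ?_ hB (fun w hw hwV h => ?_) hzB
  · have h1 : φ (f * (1 - n)) ∈ (M.comap s).ideal ⟨V, hV⟩ := by
      rw [comap_ideal M s U ⟨V, hV⟩ hVU, ← hj₂']
      exact Ideal.mem_map_of_mem _ hj₂
    have h2 := hMT _ h1
    rw [Scheme.IdealSheafData.ideal_sup] at h2
    rw [← map_mul]
    refine SetLike.le_def.1 (sup_le_sup_right ?_ _) h2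
    rw [comap_ideal T s U ⟨V, hV⟩ hVU]
    refine (Ideal.map_mono (hT U f _ hf.ideal_eq hJ)).trans ?_
    rw [Ideal.map_mul, Ideal.map_span, Set.image_singleton]
    refine Ideal.mul_mono le_rfl (Ideal.map_le_iff_le_comap.2 fun a ha => ?_)
    exact (appLE_mem_van s hVU hzV a).2 ha
  · exact not_mem_van_of_not_mem_support hf.ideal_eq (hVU hwV) (hB' w hw)
      ((appLE_mem_van s hVU hwV f).1 h)

end Groth.Agent.BlowUp3
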