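import Groth.Prelude.Def_CurvBase
import Groth.Agent.Lib.EffCartier.Mul

/-!
# Ideal sheaves on spectra
-/

set_option autoImplicit false
set_option backward.isDefEq.respectTransparency.types false
universe u

open CategoryTheory AlgebraicGeometry

namespace Groth.Agent.BlowUp3

variable {A B : Type u} [CommRing A] [CommRing B]

theorem idealSheaf_ideal_top (I : Ideal A) :
    (Curv2.idealSheaf A I).ideal ⟨⊤, isAffineOpen_top _⟩ = I.map (Scheme.ΓSpecIso (CommRingCat.of A)).inv.hom := by
  rw [Curv2.idealSheaf, Scheme.IdealSheafData.ofIdealTop_ideal]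
  refine (congrArg (Ideal.map · _) ?_).trans (Ideal.map_id _)
  erw [CategoryTheory.Functor.map_id]
  rfl

theorem comap_idealSheaf (φ : A →+* B) (I : Ideal A) :
    (Curv2.idealSheaf A I).comap (Spec.map (CommRingCat.ofHom φ)) = Curv2.idealSheaf B (I.map φ) := by
  apply Scheme.IdealSheafData.ext_of_isAffine
  rw [EffCartier.comap_ideal_top, idealSheaf_ideal_top, idealSheaf_ideal_top, Ideal.map_map, Ideal.map_map]
  congr 1
  have h := Scheme.ΓSpecIso_inv_naturality (CommRingCat.ofHom φ)
  exact (congrArg CommRingCat.Hom.hom h).symm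

theorem idealSheaf_mul (I J : Ideal A) : Curv2.idealSheaf A (I * J) = Curv2.idealSheaf A I * Curv2.idealSheaf A J := by
  apply Scheme.IdealSheafData.ext_of_isAffine
  rw [Scheme.IdealSheafData.ideal_mul, Pi.mul_apply, idealSheaf_ideal_top, idealSheaf_ideal_top,
    idealSheaf_ideal_top, Ideal.map_mul]

theorem idealSheaf_pow (I : Ideal A) (n : ℕ) : Curv2.idealSheaf A (I ^ n) = Curv2.idealSheaf A I ^ n := by
  apply Scheme.IdealSheafData.ext_of_isAffine
  rw [Scheme.IdealSheafData.ideal_pow, Pi.pow_apply, idealSheaf_ideal_top, idealSheaf_ideal_top, Ideal.map_pow]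

theorem idealSheaf_le_iff (I J : Ideal A) : Curv2.idealSheaf A I ≤ Curv2.idealSheaf A J ↔ I ≤ J := by
  constructor
  · intro h
    have h1 := h ⟨⊤, isAffineOpen_top _⟩
    rw [idealSheaf_ideal_top, idealSheaf_ideal_top] at h1
    have h2 := Ideal.map_mono (f := (Scheme.ΓSpecIso (CommRingCat.of A)).hom.hom) h1
    rw [Ideal.map_map, Ideal.map_map, ← CommRingCat.hom_comp, Iso.inv_hom_id, CommRingCat.hom_id,
      Ideal.map_id, Ideal.map_id] at h2
    exact h2
  · intro h
    refine Scheme.IdealSheafData.le_of_isAffine ?_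
    rw [idealSheaf_ideal_top, idealSheaf_ideal_top]
    exact Ideal.map_mono h

theorem mem_support_idealSheaf (I : Ideal A) (q : PrimeSpectrum A) :
    q ∈ ((Curv2.idealSheaf A I).support : Set (Spec (CommRingCat.of A))) ↔ I ≤ q.asIdeal := by
  refine (Scheme.IdealSheafData.mem_support_iff_of_mem (U := ⟨⊤, isAffineOpen_top _⟩) trivial).trans ?_
  rw [idealSheaf_ideal_top, Scheme.mem_zeroLocus_iff]
  have hb : ∀ a : A, (q ∈ (Spec (CommRingCat.of A)).basicOpen ((Scheme.ΓSpecIso (CommRingCat.of A)).inv a)) ↔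
      a ∉ q.asIdeal := by
    intro a
    rw [basicOpen_eq_of_affine]
    exact Iff.rfl
  refine ⟨fun h a ha => by_contra fun haq => h _ (Ideal.mem_map_of_mem _ ha) ((hb a).2 haq), fun h z hz => ?_⟩
  obtain ⟨a, rfl⟩ : ∃ a, (Scheme.ΓSpecIso (CommRingCat.of A)).inv a = z :=
    (ConcreteCategory.bijective_of_isIso (Scheme.ΓSpecIso (CommRingCat.of A)).inv).2 z
  have : a ∈ I := by
    have h2 := Ideal.mem_map_of_mem (Scheme.ΓSpecIso (CommRingCat.of A)).hom.hom hz
    rw [Ideal.map_map, ← CommRingCat.hom_comp, Iso.inv_hom_id, CommRingCat.hom_id, Ideal.map_id] at h2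
    rwa [← CommRingCat.comp_apply, Iso.inv_hom_id, CommRingCat.id_apply] at h2
  exact fun hq => (hb a).1 hq (h this)

theorem isEffCartierIdeal_idealSheaf {a : A} (ha : a ∈ nonZeroDivisors A) :
    BlowUp.IsEffCartierIdeal (Curv2.idealSheaf A (Ideal.span {a})) := by
  intro x
  refine ⟨⟨⊤, isAffineOpen_top _⟩, trivial, (Scheme.ΓSpecIso (CommRingCat.of A)).inv a, ?_, ?_⟩
  · refine mem_nonZeroDivisors_iff_right.2 fun z hz => ?_
    apply (ConcreteCategory.bijective_of_isIso (Scheme.ΓSpecIso (CommRingCat.of A)).hom).1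
    rw [map_zero]
    refine mem_nonZeroDivisors_iff_right.1 ha _ ?_
    have := congrArg (Scheme.ΓSpecIso (CommRingCat.of A)).hom hz
    rwa [map_mul, map_zero, ← CommRingCat.comp_apply, Iso.inv_hom_id, CommRingCat.id_apply] at this
  · rw [idealSheaf_ideal_top, Ideal.map_span, Set.image_singleton]

end Groth.Agent.BlowUp3
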