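import Groth.Agent.Lib.EffCartier.Basic

/-!
# Strict transforms and the exceptional ideal
-/

set_option autoImplicit false
set_option backward.isDefEq.respectTransparency.types false
universe u

open CategoryTheory AlgebraicGeometry

namespace Groth.Agent.BlowUp3

open Groth.Agent.EffCartier AlgebraicGeometry.Scheme.IdealSheafData

variable {X Y : Scheme.{u}}

theorem comap_subschemeι_self (I : X.IdealSheafData) : I.comap I.subschemeι = ⊥ := by
  refine le_bot_iff.1 ?_
  conv_lhs => enter [1]; rw [← I.ker_subschemeι, ← map_bot]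
  exact comap_map_le (f := I.subschemeι) (I := ⊥)

/-- The piece `K` killed by `g` cannot contain the exceptional ideal near a point of the image of `g`. -/
theorem not_le_near (g : Y ⟶ X) {E K : X.IdealSheafData} (hE : BlowUp.IsEffCartierIdeal (E.comap g))
    (hK : K.comap g = ⊥) (U : X.affineOpens) (y : Y) (hy : g y ∈ U.1) : ¬ E.ideal U ≤ K.ideal U := by
  intro h
  obtain ⟨W, hyW, hWU, f, hf⟩ := exists_isEqn hE (show y ∈ g ⁻¹ᵁ U.1 from hy)
  have h1 : (E.comap g).ideal W ≤ (K.comap g).ideal W := by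
    rw [comap_ideal E g U W hWU, comap_ideal K g U W hWU]
    exact Ideal.map_mono h
  rw [hK, hf.ideal_eq, Scheme.IdealSheafData.ideal_bot] at h1
  have hf0 : f = 0 := (Submodule.mem_bot _).1 (h1 (Ideal.mem_span_singleton_self f))
  haveI : Nonempty W.1 := ⟨⟨y, hyW⟩⟩
  exact zero_notMem_nonZeroDivisors (hf0 ▸ hf.mem)

theorem comap_comap_eq_bot {X' : Scheme.{u}} {b : X' ⟶ X} {I : X.IdealSheafData} {b' : Y ⟶ I.subscheme}
    {k : Y ⟶ X'} (hk : k ≫ b = b' ≫ I.subschemeι) : (I.comap b).comap k = ⊥ := by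
  rw [← comap_comp, hk, comap_comp, comap_subschemeι_self, Scheme.IdealSheafData.comap_bot]

theorem isEff_comap_comap {X' : Scheme.{u}} {b : X' ⟶ X} {I C : X.IdealSheafData} {b' : Y ⟶ I.subscheme}
    {k : Y ⟶ X'} (hk : k ≫ b = b' ≫ I.subschemeι) (hb' : BlowUp.IsBlowUp b' (C.comap I.subschemeι)) :
    BlowUp.IsEffCartierIdeal ((C.comap b).comap k) := by
  rw [← comap_comp, hk, comap_comp]; exact hb'.1

/-- Where a finite sum of ideals is invertible, one of the summands generates it. -/
theorem exists_generates {ι : Type*} (K : ι → X.IdealSheafData) (h : BlowUp.IsEffCartierIdeal (⨆ i, K i))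
    (x : X) : ∃ (i : ι) (U : X.affineOpens), x ∈ U.1 ∧ (⨆ j, K j).ideal U ≤ (K i).ideal U := by
  obtain ⟨U, hxU, f, hf⟩ := isEffCartierIdeal_iff.mp h x
  let P : Ideal Γ(X, U.1) := (IsLocalRing.maximalIdeal (X.presheaf.stalk x)).comap (X.presheaf.germ U.1 x hxU).hom
  have hP : ∀ a : Γ(X, U.1), a ∉ P → x ∈ X.basicOpen a := fun a ha =>
    (X.mem_basicOpen a x hxU).2 (IsLocalRing.notMem_maximalIdeal.1 fun h => ha (Ideal.mem_comap.2 h))
  have hsum : (⨆ j, K j).ideal U = ⨆ j, (K j).ideal U := by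
    rw [Scheme.IdealSheafData.ideal_iSup, iSup_apply]
  by_contra hne
  push Not at hne
  have hle : (⨆ j, (K j).ideal U) ≤ Ideal.span {f} * P := by
    refine iSup_le fun i t ht => ?_
    have ht' : t ∈ Ideal.span {f} := by
      rw [← hf.ideal_eq, hsum]; exact le_iSup (fun j => (K j).ideal U) i ht
    obtain ⟨a, rfl⟩ := Ideal.mem_span_singleton'.1 ht'
    by_cases ha : a ∈ P
    · rw [mul_comm a f]; exact Ideal.mul_mem_mul (Ideal.mem_span_singleton_self f) ha
    exfalso
    have hxa : x ∈ X.basicOpen a := hP a ha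
    refine hne i (X.affineBasicOpen a) hxa ?_
    rw [(hf.basicOpen a).ideal_eq, Ideal.span_singleton_le_iff_mem, ← (K i).map_ideal (X.affineBasicOpen_le a)]
    have hu : IsUnit (X.presheaf.map (homOfLE (X.basicOpen_le a)).op a) := RingedSpace.isUnit_res_basicOpen _ _
    obtain ⟨c, hc⟩ := hu.exists_left_inv
    have := Ideal.mul_mem_left _ c (Ideal.mem_map_of_mem (X.presheaf.map (homOfLE (X.basicOpen_le a)).op).hom ht)
    rw [map_mul, ← mul_assoc, hc, one_mul] at this
    exact this
  rw [← hsum, hf.ideal_eq, Ideal.span_singleton_le_iff_mem, Ideal.mem_span_singleton_mul] at hle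
  obtain ⟨p, hp, hfp⟩ := hle
  have : p = 1 := by
    refine sub_eq_zero.1 ((mem_nonZeroDivisors_iff_right.mp hf.mem) (p - 1) ?_)
    linear_combination hfp
  exact (IsLocalRing.maximalIdeal.isMaximal _).ne_top (Ideal.eq_top_of_isUnit_mem _ (Ideal.mem_comap.1 hp) ((this ▸ isUnit_one : IsUnit p).map _))

end Groth.Agent.BlowUp3
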