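import Groth.Agent.Lib.BlowUp3.Projective
import Groth.Agent.Lib.Ample18.Ample
import Groth.Agent.Lib.Ample18.Sections
import Groth.Agent.Lib.ProjSpace.BaseChange

/-!
# Twisting data from ample modules and from projective embeddings; birational morphisms
-/

set_option autoImplicit false
set_option linter.style.haveILetI false
set_option backward.isDefEq.respectTransparency false
universe u

open CategoryTheory CategoryTheory.Limits AlgebraicGeometry

namespace Groth.Agent.BlowUp3

variable {X' X : Scheme.{u}}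

open Groth.Agent.M2 (res IsGenerator) in
theorem nonempty_twistData_of_section [IsIntegral X] [CompactSpace X] {L : X.Modules} (hL : PicF.IsInvertible L)
    (s : Coh.structureModule X ⟶ L) (hs : IsAffineOpen (CohB1.genLocus L s))
    (hη : genericPoint X ∈ CohB1.genLocus L s) : Nonempty (TwistData (X := X)) := by
  classical
  choose U e a hxU _ hU he ha heq using fun x : X => Amp.exists_local hL s (V := ⊤) (x := x) trivial
  obtain ⟨S, hS⟩ := isCompact_univ.elim_finite_subcover (fun x => (U x : Set X)) (fun x => (U x).isOpen)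
    (fun x _ => Set.mem_iUnion.mpr ⟨x, hxU x⟩)
  let pt : Fin S.card → X := fun l => (S.equivFin.symm l).1
  refine ⟨{ n := S.card
            U := fun l => ⟨U (pt l), hU (pt l)⟩
            cover := ?_
            mem := fun l => genericPoint_mem ⟨pt l, hxU (pt l)⟩
            U₀ := ⟨_, hs⟩
            mem₀ := hη
            σ := fun l => a (pt l)
            basicOpen := fun l => (heq (pt l)).symm
            unit := fun l m W hl hm => ?_ }⟩
  · refine eq_top_iff.mpr fun x _ => ?_
    obtain ⟨y, hy, hxy⟩ := Set.mem_iUnion₂.mp (hS (Set.mem_univ x))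
    exact TopologicalSpace.Opens.mem_iSup.mpr ⟨S.equivFin ⟨y, hy⟩, by simpa [pt] using hxy⟩
  · have gl := Amp.isGenerator_res (show W.1 ≤ U (pt l) from hl) (he (pt l))
    have gm := Amp.isGenerator_res (show W.1 ≤ U (pt m) from hm) (he (pt m))
    obtain ⟨c, hc⟩ := Amp.exists_coeff gl (res L hm (e (pt m)))
    obtain ⟨d, hd⟩ := Amp.exists_coeff gm (res L hl (e (pt l)))
    have hinj : Function.Injective fun r : Γ(X, W.1) => r • res L hl (e (pt l)) := by
      have := (gl W.1 le_rfl).1
      simpa only [Amp.res_self] using this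
    have hcd : c * d = 1 := hinj (by
      show (c * d) • res L hl (e (pt l)) = (1 : Γ(X, W.1)) • res L hl (e (pt l))
      rw [one_smul, mul_comm, mul_smul, hc, hd])
    refine ⟨c, IsUnit.of_mul_eq_one d hcd, hinj ?_⟩
    show X.presheaf.map (homOfLE hl).op (a (pt l)) • res L hl (e (pt l)) =
      (c * X.presheaf.map (homOfLE hm).op (a (pt m))) • res L hl (e (pt l))
    rw [← Amp.res_smul, ha, Amp.res_res, mul_comm, mul_smul, hc, ← Amp.res_smul, ha, Amp.res_res]

theorem nonempty_twistData_of_isAmple [IsIntegral X] {M : X.Modules} (hM : CohB1.IsAmple M) :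
    Nonempty (TwistData (X := X)) := by
  haveI : CompactSpace X := hM.2.1
  obtain ⟨n, s, hη, hs⟩ := hM.2.2 (genericPoint X)
  exact nonempty_twistData_of_section (Amp.isInvertible_tensorPow hM.1 (n + 1)) s hs hη

theorem appLE_res {Y : Scheme.{u}} (q : X ⟶ Y) {D D' : Y.Opens} {W : X.Opens} (hD : D ≤ D') (hW : W ≤ q ⁻¹ᵁ D)
    (hW' : W ≤ q ⁻¹ᵁ D') (s : Γ(Y, D')) :
    q.appLE D W hW (Y.presheaf.map (homOfLE hD).op s) = X.presheaf.map (homOfLE hW').op (q.app D' s) := by
  rw [← CommRingCat.comp_apply, ← CommRingCat.comp_apply, Scheme.Hom.map_appLE]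
  rfl

theorem nonempty_twistData_of_projSpace [IsIntegral X] (N : ℕ) (R : Type u) [CommRing R]
    (q : X ⟶ CohB1.ProjSpace N R) [IsAffineHom q] : Nonempty (TwistData (X := X)) := by
  classical
  obtain ⟨j, hj⟩ := TopologicalSpace.Opens.mem_iSup.mp
    ((iSup_Dp N R).ge (show q (genericPoint X) ∈ (⊤ : (CohB1.ProjSpace N R).Opens) from trivial))
  let K := {l : Fin (N + 1) // genericPoint X ∈ q ⁻¹ᵁ Dp N R l}
  let k : Fin (Fintype.card K) → Fin (N + 1) := fun l => ((Fintype.equivFin K).symm l).1
  refine ⟨{ n := Fintype.card K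
            U := fun l => ⟨q ⁻¹ᵁ Dp N R (k l), (isAffineOpen_Dp N R (k l)).preimage q⟩
            cover := ?_
            mem := fun l => ((Fintype.equivFin K).symm l).2
            U₀ := ⟨q ⁻¹ᵁ Dp N R j, (isAffineOpen_Dp N R j).preimage q⟩
            mem₀ := hj
            σ := fun l => q.app (Dp N R (k l)) (ratio N R (k l) j)
            basicOpen := fun l => ?_
            unit := fun l m W hl hm => ?_ }⟩
  · refine eq_top_iff.mpr fun x _ => ?_
    obtain ⟨l, hl⟩ := TopologicalSpace.Opens.mem_iSup.mp
      ((iSup_Dp N R).ge (show q x ∈ (⊤ : (CohB1.ProjSpace N R).Opens) from trivial))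
    let l' : K := ⟨l, genericPoint_mem ⟨x, hl⟩⟩
    exact TopologicalSpace.Opens.mem_iSup.mpr ⟨Fintype.equivFin K l', by
      show x ∈ q ⁻¹ᵁ Dp N R _
      simp only [k, Equiv.symm_apply_apply]
      exact hl⟩
  · rw [← Scheme.Hom.preimage_basicOpen, basicOpen_ratio]
    exact TopologicalSpace.Opens.ext (Set.inter_comm _ _)
  · let D := Dp N R (k m) ⊓ Dp N R (k l)
    have hWD : W.1 ≤ q ⁻¹ᵁ D := le_inf hm hl
    let ρ := (CohB1.ProjSpace N R).presheaf.map
      (homOfLE (inf_le_right : D ≤ Dp N R (k l))).op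
    have hu : IsUnit (ρ (ratio N R (k l) (k m))) := by
      have h1 := (CohB1.ProjSpace N R).toRingedSpace.isUnit_res_basicOpen (ratio N R (k l) (k m))
      have hD : D ≤ (CohB1.ProjSpace N R).basicOpen (ratio N R (k l) (k m)) := by
        rw [basicOpen_ratio]; exact (inf_comm _ _).le
      have h2 := h1.map ((CohB1.ProjSpace N R).presheaf.map (homOfLE hD).op).hom
      erw [← CommRingCat.comp_apply, ← Functor.map_comp] at h2
      exact h2
    refine ⟨q.appLE D W.1 hWD (ρ (ratio N R (k l) (k m))), hu.map _, ?_⟩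
    have h3 := congrArg (q.appLE D W.1 hWD) (ratio_mul N R (k l) (k m) j
      (inf_le_left : D ≤ Dp N R (k m)) (inf_le_right : D ≤ Dp N R (k l)))
    rw [map_mul] at h3
    have e1 := appLE_res q (inf_le_left : D ≤ Dp N R (k m)) hWD hm (ratio N R (k m) j)
    have e2 := appLE_res q (inf_le_right : D ≤ Dp N R (k l)) hWD hl (ratio N R (k l) j)
    exact (e2.symm.trans h3.symm).trans ((mul_comm _ _).trans (congrArg (q.appLE D W.1 hWD _ * ·) e1))

theorem isField_stalk_of_eq [IsIntegral X] (x : X) (h : x = genericPoint X) : IsField (X.presheaf.stalk x) :=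
  h ▸ Field.toIsField X.functionField

/-- An isomorphism over a nonempty open is an isomorphism at the generic points. -/
theorem generic_of_birational [IsIntegral X'] [IsIntegral X] (f : X' ⟶ X) (U : X.Opens) (hU : (U : Set X).Nonempty)
    [IsIso (f ∣_ U)] :
    f (genericPoint X') = genericPoint X ∧ Function.Bijective (f.stalkMap (genericPoint X')) := by
  have hsurj : ∀ x ∈ U, ∃ x' : X', f x' = x := fun x hx => by
    obtain ⟨y, hy⟩ := (f ∣_ U).surjective ⟨x, hx⟩
    exact ⟨(f ⁻¹ᵁ U).ι y, by rw [← Scheme.Hom.comp_apply, ← morphismRestrict_ι, Scheme.Hom.comp_apply, hy]; rfl⟩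
  obtain ⟨x', hx'⟩ := hsurj _ (genericPoint_mem hU)
  have hη : f (genericPoint X') = genericPoint X :=
    ((genericPoint_spec X).specializes trivial).antisymm
      (hx' ▸ ((genericPoint_spec X').specializes trivial).map f.continuous) |>.symm.eq
  have hmem : genericPoint X' ∈ f ⁻¹ᵁ U := by
    show f (genericPoint X') ∈ U
    rw [hη]; exact genericPoint_mem hU
  refine ⟨hη, ?_⟩
  haveI : IsIso (f.stalkMap (genericPoint X')) :=
    ((MorphismProperty.isomorphisms CommRingCat).arrow_mk_iso_iff
      (morphismRestrictStalkMap f U ⟨genericPoint X', hmem⟩)).mp (inferInstanceAs (IsIso _))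
  exact ConcreteCategory.bijective_of_isIso (f.stalkMap (genericPoint X'))

theorem bijective_stalkMap_of_residue [IsIntegral X'] [IsIntegral X] (f : X' ⟶ X)
    (hη : f (genericPoint X') = genericPoint X)
    (hbir : Function.Bijective (f.residueFieldMap (genericPoint X')).hom) :
    Function.Bijective (f.stalkMap (genericPoint X')) := by
  have h' := isField_stalk_of_eq (f (genericPoint X')) hη
  have hr : Function.Bijective (X.residue (f (genericPoint X'))).hom := by
    letI := h'.toField
    exact ⟨RingHom.injective _, X.residue_surjective _⟩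
  have hr' : Function.Bijective (X'.residue (genericPoint X')).hom := by
    letI := (isField_stalk_of_eq (genericPoint X') rfl).toField
    exact ⟨RingHom.injective _, X'.residue_surjective _⟩
  have h := congrArg (fun φ => (CommRingCat.Hom.hom φ : _ → _)) (Scheme.residue_residueFieldMap f (genericPoint X'))
  simp only [CommRingCat.hom_comp, RingHom.coe_comp] at h
  exact (hr'.of_comp_iff' _).mp (h ▸ hbir.comp hr)

theorem exists_isBlowUp_of_isAmple [IsIntegral X'] [IsIntegral X] (M : X.Modules) (hM : CohB1.IsAmple M)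
    (f : X' ⟶ X) (N : ℕ) (i : X' ⟶ CohB1.ProjSpaceOver N X) [IsClosedImmersion i]
    (hi : i ≫ CohB1.ProjSpaceOver.toBase N X = f)
    (hbir : ∃ U : X.Opens, (U : Set X).Nonempty ∧ IsIso (f ∣_ U)) :
    ∃ I : X.IdealSheafData, BlowUp.IsBlowUp f I := by
  obtain ⟨U, hU, hiso⟩ := hbir
  haveI := Amp.quasiSeparatedSpace_of_isAmple hM
  obtain ⟨P⟩ := exists_projData f i hi
  obtain ⟨T⟩ := nonempty_twistData_of_isAmple hM
  obtain ⟨hη, hbij⟩ := generic_of_birational f U hU
  exact exists_isBlowUp f P T hη hbij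

end Groth.Agent.BlowUp3
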